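import Mathlib

/-!
A finitely generated extension `K` of a perfect field `k = Frac D` is the fraction field of a
subalgebra smooth of finite type over `D` (separating transcendence basis + standard étale algebra).
-/

set_option autoImplicit false

namespace Groth.Agent.SmoothModel

open Polynomial

universe u v w

theorem exists_model {D : Type u} [CommRing D] [IsDomain D] [UniqueFactorizationMonoid D]
    {k : Type v} [Field k] [PerfectField k] [Algebra D k] [IsFractionRing D k]
    {K : Type w} [Field K] [Algebra D K] [Algebra k K] [IsScalarTower D k K] [Algebra.EssFiniteType k K] :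
    ∃ A : Subalgebra D K, Algebra.FiniteType D A ∧ Algebra.Smooth D A ∧ IsFractionRing A K := by
  classical
  obtain ⟨t, ht, hsep⟩ := exists_isTranscendenceBasis_and_isSeparable_of_perfectField k K
  let E := IntermediateField.adjoin k (t : Set K)
  let P := MvPolynomial t D
  have hDk : Function.Injective (algebraMap D k) := IsFractionRing.injective D k
  have hφ : Function.Injective (MvPolynomial.aeval (R := D) ((↑) : t → K)) := by
    have := AlgebraicIndependent.restrictScalars hDk ht.1
    exact this
  let φ : P →ₐ[D] K := MvPolynomial.aeval ((↑) : t → K)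
  have hX : ∀ i : t, φ (MvPolynomial.X i) = (i : K) := fun i => MvPolynomial.aeval_X _ i
  have hφE : ∀ z, φ z ∈ E := by
    intro z
    induction z using MvPolynomial.induction_on with
    | C c =>
      rw [← MvPolynomial.algebraMap_eq, AlgHom.commutes, IsScalarTower.algebraMap_apply D k K]
      exact E.algebraMap_mem _
    | add a b ha hb => rw [map_add]; exact E.add_mem ha hb
    | mul_X a i ha => rw [map_mul, hX]; exact E.mul_mem ha (IntermediateField.subset_adjoin k _ i.2)
  letI algPE : Algebra P E := ((φ : P →+* K).codRestrict E.toSubfield hφE).toAlgebra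
  letI algPK : Algebra P K := (φ : P →+* K).toAlgebra
  haveI : IsScalarTower P E K := IsScalarTower.of_algebraMap_eq fun _ => rfl
  haveI : IsScalarTower D P K := IsScalarTower.of_algebraMap_eq fun d => (φ.commutes d).symm
  haveI : FaithfulSMul P E := (faithfulSMul_iff_algebraMap_injective P E).2 fun a b h => hφ (congrArg Subtype.val h)
  haveI : FaithfulSMul P K := (faithfulSMul_iff_algebraMap_injective P K).2 hφ
  -- fractions of `P` inside `K`
  let C : Subfield K := Subfield.closure (Set.range φ)
  have hkC : ∀ c : k, algebraMap k K c ∈ C := fun c => by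
    obtain ⟨a, b, -, rfl⟩ := IsFractionRing.div_surjective (A := D) c
    rw [map_div₀, ← IsScalarTower.algebraMap_apply, ← IsScalarTower.algebraMap_apply]
    exact C.div_mem (Subfield.subset_closure ⟨algebraMap D P a, φ.commutes a⟩)
      (Subfield.subset_closure ⟨algebraMap D P b, φ.commutes b⟩)
  have hEC : ∀ x ∈ E, x ∈ C := fun x hx => by
    let C' : IntermediateField k K := C.toIntermediateField hkC
    exact (IntermediateField.adjoin_le_iff.2 fun y hy => Subfield.subset_closure ⟨MvPolynomial.X ⟨y, hy⟩, hX _⟩ :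
      E ≤ C') hx
  haveI : IsFractionRing P E := IsFractionRing.of_field P E fun z => by
    obtain ⟨a, ha, b, hb, hab⟩ := Subfield.mem_closure_iff.1 (hEC z z.2)
    have hcl : Subring.closure (Set.range φ) ≤ (φ : P →+* K).range := Subring.closure_le.2 fun _ h => h
    obtain ⟨a', rfl⟩ := hcl ha
    obtain ⟨b', rfl⟩ := hcl hb
    exact ⟨a', b', Subtype.ext hab.symm⟩
  haveI : Algebra.IsSeparable E K := hsep
  haveI : Algebra.EssFiniteType E K := Algebra.EssFiniteType.of_comp k E K
  haveI : FiniteDimensional E K := Algebra.finite_of_essFiniteType_of_isAlgebraic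
  obtain ⟨θ₀, hθ₀⟩ := Field.exists_primitive_element E K
  obtain ⟨y, hy, hθint⟩ := ((IsFractionRing.isAlgebraic_iff P E K).2
    (Algebra.IsAlgebraic.isAlgebraic θ₀)).exists_integral_multiple
  set θ := y • θ₀ with hθ
  have hθgen : IntermediateField.adjoin E {θ} = ⊤ := by
    rw [eq_top_iff, ← hθ₀, IntermediateField.adjoin_simple_le_iff]
    have h1 : θ₀ = (algebraMap P E y)⁻¹ • θ := by
      rw [hθ, ← IsScalarTower.algebraMap_smul E y θ₀, inv_smul_smul₀]
      exact fun h => hy (FaithfulSMul.algebraMap_injective P E (h.trans (map_zero _).symm))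
    rw [h1]
    exact IntermediateField.smul_mem _ (IntermediateField.mem_adjoin_simple_self E θ)
  haveI : IsIntegrallyClosed P := inferInstance
  let f := minpoly P θ
  let St : StandardEtalePair P := ⟨f, minpoly.monic hθint, derivative f, 1, 0, 1, by ring⟩
  have hθ' : aeval θ (derivative f) ≠ 0 := by
    have hsepθ := Algebra.IsSeparable.isSeparable E θ
    have := Separable.aeval_derivative_ne_zero hsepθ (minpoly.aeval E θ)
    rwa [minpoly.isIntegrallyClosed_eq_field_fractions' E hθint, derivative_map, aeval_map_algebraMap] at this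
  have hmap : St.HasMap θ := ⟨minpoly.aeval P θ, isUnit_iff_ne_zero.2 hθ'⟩
  let ψ : St.Ring →ₐ[P] K := St.lift θ hmap
  let e := St.equivAwayAdjoinRoot
  have hinj0 : ∀ q : AdjoinRoot f, ψ (e.symm (algebraMap (AdjoinRoot f) _ q)) = 0 → q = 0 := by
    intro q hq
    obtain ⟨q, rfl⟩ := AdjoinRoot.mk_surjective q
    have hcomp : ((ψ.comp (e.symm.toAlgHom)).comp (IsScalarTower.toAlgHom P (AdjoinRoot f) _)) =
        AdjoinRoot.liftAlgHom f (Algebra.ofId P K) θ (minpoly.aeval P θ) := by
      refine AdjoinRoot.algHom_ext ?_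
      show St.lift θ hmap (e.symm (algebraMap (AdjoinRoot f) _ (AdjoinRoot.root f))) = _
      rw [show e.symm (algebraMap (AdjoinRoot f) _ (AdjoinRoot.root f)) = St.X from
        e.symm_apply_eq.2 (St.lift_X _ _).symm, St.lift_X]
      · exact (AdjoinRoot.liftAlgHom_root f (Algebra.ofId P K) θ _).symm
      · refine ⟨?_, ?_⟩
        · rw [aeval_algebraMap_apply, AdjoinRoot.aeval_eq, AdjoinRoot.mk_self, map_zero]
        · rw [aeval_algebraMap_apply, AdjoinRoot.aeval_eq]
          exact IsLocalization.Away.algebraMap_isUnit _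
    have h := AlgHom.congr_fun hcomp (AdjoinRoot.mk f q)
    simp only [AlgHom.comp_apply, IsScalarTower.coe_toAlgHom', AdjoinRoot.liftAlgHom_mk] at h
    rw [show ψ (e.symm.toAlgHom (algebraMap (AdjoinRoot f) _ (AdjoinRoot.mk f q))) = 0 from hq] at h
    exact AdjoinRoot.mk_eq_zero.2 (minpoly.isIntegrallyClosed_dvd hθint h.symm)
  have hψ : Function.Injective ψ := by
    rw [injective_iff_map_eq_zero]
    intro z hz
    obtain ⟨z, rfl⟩ := e.symm.surjective z
    obtain ⟨⟨q, ⟨s, hs⟩⟩, hq⟩ := IsLocalization.surj (Submonoid.powers (AdjoinRoot.mk f (derivative f))) z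
    have h0 : algebraMap (AdjoinRoot f) _ q = (0 : Localization.Away (AdjoinRoot.mk St.f St.g)) := by
      rw [hinj0 q (by rw [← hq, map_mul, map_mul, hz, zero_mul]), map_zero]
    rw [h0] at hq
    rw [(IsLocalization.map_units (Localization.Away (AdjoinRoot.mk St.f St.g)) ⟨s, hs⟩).mul_left_eq_zero.1 hq,
      map_zero]
  letI algDR : Algebra D St.Ring := ((algebraMap P St.Ring).comp (algebraMap D P)).toAlgebra
  haveI : IsScalarTower D P St.Ring := IsScalarTower.of_algebraMap_eq fun _ => rfl
  let ψD : St.Ring →ₐ[D] K := ψ.restrictScalars D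
  let eA : St.Ring ≃ₐ[D] ψD.range := AlgEquiv.ofInjective ψD hψ
  haveI : Algebra.Smooth D P := ⟨inferInstanceAs (Algebra.FormallySmooth D (MvPolynomial t D)), inferInstanceAs (Algebra.FinitePresentation D (MvPolynomial t D))⟩
  haveI : Algebra.Smooth D St.Ring := Algebra.Smooth.comp D P St.Ring
  refine ⟨ψD.range, Algebra.FiniteType.equiv (inferInstance : Algebra.FiniteType D St.Ring) eA,
    Algebra.Smooth.of_equiv eA, IsFractionRing.of_field _ _ fun z => ?_⟩
  have hφA : ∀ q, φ q ∈ ψD.range := fun q => ⟨algebraMap P St.Ring q, ψ.commutes q⟩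
  have hθA : θ ∈ ψD.range := ⟨St.X, St.lift_X θ hmap⟩
  let CA : Subfield K := Subfield.closure (ψD.range : Set K)
  have hCC : C ≤ CA := Subfield.closure_le.2 fun _ ⟨q, hq⟩ => Subfield.subset_closure (hq ▸ hφA q)
  have htop : ∀ x : K, x ∈ CA := fun x => by
    let CA' : IntermediateField E K := CA.toIntermediateField fun c => hCC (hEC _ c.2)
    have h : IntermediateField.adjoin E {θ} ≤ CA' :=
      IntermediateField.adjoin_simple_le_iff.2 (Subfield.subset_closure hθA)
    exact h (hθgen ▸ IntermediateField.mem_top)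
  obtain ⟨a, ha, b, hb, hab⟩ := Subfield.mem_closure_iff.1 (htop z)
  have hcl : Subring.closure (ψD.range : Set K) ≤ ψD.range.toSubring := Subring.closure_le.2 fun _ h => h
  exact ⟨⟨a, hcl ha⟩, ⟨b, hcl hb⟩, hab.symm⟩

end Groth.Agent.SmoothModel
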